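import Mathlib.Data.Nat.Notation

/-!
Witnesses for the centralizers of the two-elements of the double cover.
-/

set_option autoImplicit false
set_option maxRecDepth 100000

namespace Cfsg.Agent.Spor.CoThreeStandard

/-- representatives of the elements squaring into the centre -/
def repI : List ℕ := [4, 3, 8, 170]

/-- generators centralizing the representatives -/
def repW : List (List (List ℕ)) := [
  [[4, 4, 3, 4, 4, 2]],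
  [[5, 5, 1, 5, 1, 2, 4, 2, 3, 2], [5, 5, 5, 3, 4, 3, 2, 2, 2]],
  [[0, 2, 4, 5, 1, 2, 1]],
  [[5, 5, 4, 4, 3, 2]]]

/-- conjugators to the representatives -/
def zRow : List (ℕ × ℕ × List ℕ) := [
  (2, 0, [2, 2, 0]), (4, 1, [0, 1, 0]), (6, 2, [0, 2, 4]),
  (12, 1, [4, 3, 2, 3, 4, 0]), (13, 3, [5, 0, 1, 2]), (16, 1, [0, 4, 5, 1]),
  (17, 0, [4, 2, 4]), (18, 0, [0, 4, 2, 0]), (21, 3, [5, 3, 4, 3]),
  (22, 0, [2, 1, 5, 4]), (23, 2, [1, 1, 0]), (26, 2, [4, 3, 5, 4, 2]),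
  (27, 2, [2, 2, 0, 4]), (29, 1, [4, 3]), (31, 2, [5, 1, 0, 5, 0]),
  (33, 1, [3, 4, 0, 0]), (35, 1, [0, 2, 0, 0, 1]), (41, 2, [1, 0, 1, 1, 0]),
  (42, 2, [2, 4]), (43, 1, [0, 1, 2, 0, 1]), (49, 2, [4, 5, 1, 2]),
  (50, 1, [3, 1, 0, 0]), (53, 1, [0, 2, 1]), (57, 0, [2, 0, 0, 4]),
  (60, 1, [1, 1, 5, 4, 0, 1]), (61, 1, [1, 3, 1]), (63, 0, [2, 0, 4, 2]),
  (66, 0, [5, 3, 5, 0]), (67, 2, [0, 0, 2, 4]), (70, 1, [4, 0, 0, 1]),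
  (75, 2, [2, 0, 4, 3]), (79, 1, [1, 1, 5, 1, 0, 1]), (82, 1, [0, 1, 3, 1, 1, 5]),
  (83, 0, [3, 2, 0, 4]), (84, 0, [2, 3, 4, 2]), (91, 1, [2, 0, 5]),
  (94, 2, [3, 1, 1, 0, 0]), (96, 2, [5, 1, 1, 2]), (103, 0, [0, 1, 3, 4]),
  (105, 2, [1, 1, 0, 4]), (107, 1, [1]), (114, 1, [0, 4, 0, 5, 1]),
  (115, 3, [0, 2, 4]), (118, 1, [4, 3, 2, 1]), (119, 3, [5, 3, 5, 0]),
  (120, 2, [0, 2, 0, 1, 1]), (122, 3, [2, 0, 4]), (123, 2, [3, 2, 3, 4, 3]),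
  (128, 2, [0, 4, 0, 2, 4]), (130, 2, [4, 3, 2, 4]), (131, 1, [1, 3, 5, 4, 0, 0]),
  (132, 1, [4, 0, 1, 3, 1]), (134, 1, [1, 5, 0, 0]), (136, 1, [4, 3, 4, 0, 5]),
  (137, 0, [0]), (139, 1, [2, 2, 4, 5, 4, 0]), (142, 0, [2, 2, 0, 1, 0]),
  (149, 2, []), (150, 1, [0, 4, 0, 2, 4, 0]), (155, 1, [4, 0, 1]),
  (156, 0, [2, 4]), (160, 1, [4, 3, 4, 5, 1]), (174, 2, [2, 0, 4]),
  (181, 2, [0, 4, 2, 0, 4]), (182, 1, [0, 4, 5]), (184, 2, [0, 2, 0, 0, 4]),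
  (187, 1, [0, 4, 5, 1, 3, 1]), (190, 1, [0, 4, 3, 2, 0, 1]), (192, 1, [1, 0, 0, 1]),
  (194, 1, [0, 1, 0, 5, 1]), (200, 0, [2, 2, 4, 5]), (202, 2, [2, 0, 0, 4]),
  (204, 1, [4, 3, 4, 5]), (205, 0, [1, 1, 3]), (207, 0, [5, 0, 5, 0]),
  (214, 2, [0]), (215, 1, [0, 4, 0, 2, 0, 1]), (216, 0, [3, 2, 0, 4, 2]),
  (221, 3, [2, 2, 4]), (227, 0, [4, 0, 0]), (233, 2, [2, 2, 1, 1]),
  (237, 3, [0, 2, 2, 4]), (246, 2, [1, 1, 2, 4]), (250, 1, [4, 0, 4, 3]),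
  (251, 1, [0, 1, 5, 1]), (254, 1, [2, 4, 2, 0, 4, 5]), (255, 1, [0, 4, 0, 5]),
  (260, 0, [0, 0, 2]), (263, 2, [1, 0, 4, 2, 4]), (266, 2, [5, 1, 2, 0, 0]),
  (270, 1, [4, 0, 1, 3]), (272, 1, [2, 2, 4, 5]), (274, 0, [5, 3, 4, 3]),
  (279, 1, [0, 1, 5, 3, 1]), (282, 1, [0, 4, 5, 3, 1]), (289, 2, [1, 1, 3, 4, 0]),
  (298, 0, [2, 4, 5, 3]), (303, 2, [2, 1, 2, 4]), (308, 2, [5, 3, 4, 3]),
  (310, 0, [5, 5, 0, 1]), (322, 1, [1, 0, 0]), (325, 2, [3, 4, 2, 4]),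
  (326, 2, [3, 1, 0]), (327, 0, [4, 3, 2, 0, 0]), (336, 2, [3, 4, 0, 2, 4]),
  (342, 1, [0, 0]), (350, 0, [0, 2, 2, 0]), (356, 1, [1, 1, 3]),
  (359, 1, [0, 1, 5, 0, 0, 1]), (361, 2, [0, 0, 1]), (366, 1, [5, 4, 2, 1, 0]),
  (368, 2, [5, 4, 0, 5, 0]), (374, 1, [3, 4, 0]), (375, 1, [0, 0, 4, 5, 0, 0]),
  (376, 2, [1, 5, 0, 4, 3]), (380, 1, [0, 1, 2, 3, 1]), (384, 1, [3, 4, 0, 1]),
  (389, 0, [0, 2]), (390, 1, [1, 1, 0, 1, 5]), (399, 1, [0, 4, 0, 0]),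
  (400, 0, [2, 0, 4]), (408, 1, [0, 1, 3, 1]), (411, 1, [4, 3, 1, 0, 0]),
  (413, 1, [3, 2, 0, 2, 4, 5]), (416, 1, [3, 1, 2, 2, 4, 5]), (417, 2, [5, 0, 5, 1, 1, 0]),
  (419, 1, [1, 1, 5, 1, 0, 0]), (426, 2, [4, 2, 0, 4]), (439, 2, [1, 0, 4, 0, 0]),
  (442, 1, [1, 0, 1, 0]), (446, 1, [3, 1, 0]), (449, 1, [0, 0, 4, 5]),
  (455, 1, [1, 1, 0, 5, 0, 0]), (456, 0, [3, 4, 0, 1]), (462, 2, [4, 0, 1, 1, 0]),
  (469, 2, [1, 5, 3]), (470, 2, [4, 0, 0]), (474, 1, [0, 2, 0, 5]),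
  (475, 1, [0, 4, 0, 1]), (482, 1, [1, 3, 4, 0, 5]), (483, 0, [0, 1, 3, 2, 0]),
  (485, 1, [3, 4, 0, 1, 5]), (490, 1, [0, 4, 3, 2, 1]), (491, 1, [0, 1, 0, 0]),
  (492, 0, [0, 0, 1, 1]), (493, 2, [1, 3, 1, 0, 0]), (496, 1, [1, 3, 4, 5, 4, 0, 0]),
  (498, 0, [2, 0, 5]), (500, 1, [0, 1, 5]), (502, 0, [2, 3, 5, 0, 0]),
  (504, 1, [0, 0, 1]), (505, 2, [5, 0, 0, 2]), (507, 0, [2, 3, 4]),
  (509, 1, [1, 3, 4, 5]), (515, 0, [1, 2, 2, 0]), (518, 0, [3, 1, 0, 1]),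
  (519, 2, [5, 4, 2, 0, 0]), (520, 2, [3, 4, 3, 1, 0]), (521, 1, [4, 3, 4, 0]),
  (522, 0, [2, 2, 1, 1]), (524, 1, [1, 1, 0, 5, 0, 1]), (529, 1, [0]),
  (532, 1, [1, 0, 1, 0, 0]), (538, 2, [2, 4, 0, 1]), (540, 2, [1, 0, 1, 1]),
  (542, 2, [0, 0, 1, 1]), (543, 1, [0, 2, 4, 0, 4, 5]), (555, 1, [2, 2, 4, 5, 0]),
  (560, 0, [5, 0, 0, 2, 0]), (562, 1, [1, 1, 0, 1]), (563, 1, [0, 1, 0, 5, 0, 0]),
  (569, 1, [0, 2, 1, 1, 0]), (570, 1, [1, 0, 1]), (573, 1, [4, 0, 0]),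
  (579, 2, [2, 3, 4, 3]), (582, 1, [2, 0, 5, 1]), (587, 2, [5, 0, 5, 0]),
  (590, 0, [3, 1, 0]), (603, 1, [1, 3, 5, 1, 0, 1]), (608, 2, [2, 1, 2, 0, 1, 1]),
  (612, 1, [1, 3]), (615, 2, [3, 1, 1, 0]), (618, 1, [0, 4, 0, 2, 3, 1]),
  (619, 1, [0, 2, 3, 5, 5]), (634, 1, [0, 0, 4, 0, 1]), (638, 1, [0, 4, 0, 2, 1]),
  (639, 0, [3, 2, 2, 4]), (640, 0, [1, 1, 0]), (645, 1, [2, 0, 5, 3]),
  (647, 1, [3, 2, 1, 3]), (649, 1, [0, 1, 2, 4, 0]), (650, 0, [1, 2, 0, 4]),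
  (652, 2, [0, 1, 0, 4]), (655, 0, [1, 3, 4, 0, 0]), (657, 2, [1, 2, 4]),
  (663, 2, [3, 2, 4]), (670, 1, []), (672, 2, [1, 0, 0, 2, 4]),
  (674, 0, [2, 0, 2, 0]), (678, 1, [1, 1, 0]), (681, 0, [1]),
  (682, 0, [1, 0, 0]), (685, 2, [3, 4, 0]), (686, 2, [3, 4, 2, 0, 4]),
  (689, 2, [4, 0, 1, 0]), (690, 0, [1, 3, 2]), (699, 1, [1, 5, 0, 1]),
  (706, 0, [0, 2, 0, 0]), (709, 1, [4, 0, 0, 1, 5]), (710, 1, [1, 5, 0, 0, 1]),
  (713, 2, [2, 2, 0, 5, 3]), (721, 2, [1, 3, 1, 1]), (722, 0, [4, 3, 2]),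
  (723, 2, [1, 5, 0, 1]), (727, 1, [0, 1, 3]), (730, 1, [0, 1, 5, 0, 0]),
  (737, 1, [3, 4, 0, 1, 5, 1]), (747, 1, [3, 1]), (756, 2, [0, 1, 2, 1, 1]),
  (759, 0, [5, 5, 0, 0]), (767, 1, [1, 2, 0, 2, 4, 5]), (782, 0, [3, 5, 3, 5, 0]),
  (784, 1, [1, 3, 4, 0]), (788, 1, [0, 0, 4, 0, 5]), (790, 2, [3, 1, 1, 2, 4]),
  (791, 2, [1, 0, 0]), (794, 1, [0, 1, 5, 1, 0, 0]), (796, 1, [0, 0, 4, 5, 1]),
  (799, 2, [5, 1, 0, 4, 3]), (805, 1, [5, 1, 2, 0]), (807, 1, [2, 0, 5, 3, 4, 5]),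
  (815, 1, [1, 0]), (817, 2, [3, 5, 0, 5, 0]), (818, 1, [4, 3, 2, 3, 5, 5]),
  (826, 1, [1, 3, 4, 0, 1]), (833, 1, [2, 0, 5, 1, 0]), (840, 2, [3, 2, 2, 0, 4]),
  (844, 1, [0, 0, 4, 0, 5, 1]), (845, 1, [0, 1, 5, 4, 0, 0]), (847, 1, [0, 1, 0, 1, 0, 0]),
  (848, 0, [1, 3, 4]), (850, 1, [5, 5, 3, 1, 3, 2]), (851, 1, [0, 1, 5, 0, 1]),
  (852, 0, [1, 0, 4]), (856, 1, [3]), (861, 1, [1, 3, 1, 0, 0]),
  (863, 2, [0, 1, 5, 0]), (877, 3, [2, 4]), (883, 2, [0, 4, 2, 4]),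
  (885, 0, [0, 2, 4]), (887, 3, [2, 2, 2, 4]), (888, 1, [2, 1, 2, 0, 4, 5]),
  (890, 2, [2, 1, 0, 1, 0]), (896, 1, [1, 5, 3, 1, 0]), (897, 1, [2, 1, 2, 4, 0, 2]),
  (901, 1, [1, 1, 5, 4, 0, 0]), (902, 2, [5, 0, 4, 3]), (908, 2, [4, 2, 4]),
  (909, 1, [0, 4, 3]), (910, 1, [1, 3, 5, 1, 0, 0]), (911, 0, [3, 4, 0]),
  (913, 1, [0, 1, 5, 3, 1, 0]), (914, 3, [3, 2, 0, 4]), (916, 2, [0, 5, 3]),
  (918, 2, [4, 0, 2, 4]), (924, 2, [3, 2, 0, 0, 4]), (930, 0, [3, 2, 4]),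
  (931, 2, [0, 1, 0, 2, 4]), (936, 1, [0, 1, 0, 5]), (937, 3, [5, 0, 5, 0]),
  (939, 2, [3, 2, 1, 2, 4]), (951, 1, [1, 3, 4, 5, 1]), (963, 3, [5, 0, 4, 3]),
  (965, 3, [3, 4, 2, 4]), (966, 1, [0, 2, 3, 4, 0]), (969, 3, [4, 2, 4]),
  (980, 1, [4, 0]), (987, 1, [0, 1]), (1002, 2, [1, 0, 1, 0, 0]),
  (1009, 1, [1, 0, 4, 3]), (1015, 2, [4, 5, 0, 4, 3]), (1018, 1, [1, 0, 2, 2, 4, 5]),
  (1019, 2, [1, 0, 2, 4]), (1021, 1, [4, 3, 1, 0, 2, 1]), (1022, 1, [4, 0, 4, 0, 1]),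
  (1023, 1, [0, 0, 1, 0])]

/-- witnesses for the roots of central roots -/
def eightW : List (List ℕ) := [
  [4, 4, 3, 5, 4, 2, 1, 1],
  [5, 0, 5, 5, 5, 1, 5, 5],
  [4, 5, 4, 2, 4, 5, 1, 2],
  [5, 5, 1, 2, 2, 0, 1],
  [2, 0, 5, 4],
  [3, 1, 3, 1]]

/-- their places -/
def eightRow : List (ℕ × ℕ) := [
  (1, 0), (5, 1), (7, 0), (8, 0), (11, 0), (14, 1), (15, 0), (19, 2),
  (25, 2), (28, 0), (32, 3), (34, 4), (38, 4), (39, 0), (45, 2), (46, 4),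
  (48, 2), (51, 0), (52, 4), (55, 4), (71, 3), (76, 5), (78, 0), (80, 0),
  (81, 2), (88, 2), (90, 1), (92, 3), (95, 2), (99, 3), (101, 0), (102, 2),
  (106, 0), (109, 0), (110, 0), (113, 0), (116, 3), (117, 0), (126, 2), (129, 0),
  (133, 3), (135, 0), (141, 4), (145, 2), (151, 4), (152, 2), (153, 5), (154, 4),
  (158, 0), (161, 5), (164, 0), (166, 5), (167, 2), (170, 2), (173, 3), (177, 1),
  (178, 4), (179, 0), (180, 0), (183, 3), (185, 0), (188, 0), (189, 0), (196, 5),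
  (201, 2), (203, 3), (208, 4), (210, 2), (220, 1), (222, 3), (228, 2), (229, 3),
  (231, 0), (236, 2), (238, 2), (239, 4), (240, 4), (242, 5), (244, 2), (248, 2),
  (252, 0), (253, 5), (257, 3), (258, 2), (259, 2), (262, 1), (265, 4), (267, 3),
  (269, 4), (271, 2), (275, 0), (278, 0), (281, 0), (283, 1), (286, 1), (287, 4),
  (290, 2), (291, 2), (294, 5), (300, 2), (301, 0), (302, 2), (305, 3), (306, 2),
  (309, 3), (315, 0), (319, 0), (320, 0), (324, 0), (328, 2), (331, 0), (333, 5),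
  (335, 0), (338, 4), (339, 0), (340, 4), (341, 2), (343, 2), (344, 2), (345, 0),
  (346, 2), (347, 0), (349, 1), (351, 4), (354, 4), (357, 2), (358, 5), (360, 2),
  (362, 0), (363, 4), (365, 4), (383, 3), (385, 1), (388, 2), (392, 3), (394, 0),
  (395, 2), (398, 0), (401, 0), (402, 4), (405, 3), (406, 4), (421, 4), (424, 5),
  (425, 0), (427, 2), (429, 5), (431, 3), (433, 0), (435, 5), (441, 1), (444, 2),
  (445, 3), (447, 0), (448, 0), (450, 0), (453, 4), (454, 0), (459, 4), (460, 5),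
  (467, 4), (468, 0), (472, 0), (473, 3), (476, 4), (479, 3), (481, 4), (484, 2),
  (487, 4), (488, 0), (489, 4), (494, 5), (497, 2), (506, 3), (508, 0), (510, 4),
  (511, 4), (514, 1), (516, 0), (517, 0), (523, 4), (526, 3), (527, 4), (535, 0),
  (537, 5), (539, 2), (547, 5), (549, 4), (550, 0), (552, 2), (554, 4), (557, 0),
  (564, 0), (565, 0), (566, 0), (567, 4), (577, 3), (578, 0), (581, 1), (586, 0),
  (588, 0), (591, 0), (593, 2), (594, 2), (596, 1), (597, 5), (600, 0), (607, 0),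
  (610, 3), (614, 2), (616, 2), (617, 2), (621, 0), (623, 0), (627, 2), (628, 2),
  (629, 2), (631, 0), (632, 0), (633, 0), (635, 0), (637, 0), (646, 0), (648, 0),
  (653, 0), (656, 0), (658, 5), (659, 4), (664, 0), (666, 0), (669, 1), (676, 2),
  (677, 4), (679, 0), (680, 0), (683, 0), (684, 3), (687, 0), (688, 2), (691, 4),
  (692, 3), (693, 0), (694, 4), (698, 2), (700, 5), (704, 3), (705, 4), (707, 2),
  (708, 3), (711, 2), (714, 4), (715, 0), (718, 2), (719, 2), (728, 3), (731, 5),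
  (732, 2), (733, 2), (734, 2), (735, 4), (736, 2), (742, 0), (743, 3), (745, 0),
  (746, 0), (748, 2), (751, 3), (753, 4), (754, 2), (755, 3), (757, 5), (758, 2),
  (760, 0), (761, 0), (764, 0), (765, 3), (766, 0), (769, 3), (770, 4), (771, 0),
  (773, 0), (775, 0), (777, 2), (778, 5), (781, 2), (783, 5), (786, 4), (787, 2),
  (789, 3), (795, 4), (804, 3), (809, 2), (811, 0), (816, 4), (819, 2), (820, 3),
  (821, 2), (822, 3), (824, 0), (825, 0), (828, 0), (829, 4), (831, 0), (832, 4),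
  (834, 0), (835, 2), (836, 0), (838, 0), (839, 5), (841, 2), (843, 2), (846, 2),
  (855, 3), (858, 2), (859, 0), (862, 2), (864, 5), (866, 2), (867, 0), (868, 4),
  (874, 4), (876, 3), (879, 5), (881, 2), (882, 0), (884, 1), (886, 0), (892, 2),
  (893, 0), (894, 0), (895, 4), (898, 5), (899, 4), (903, 2), (904, 4), (906, 2),
  (907, 0), (919, 5), (921, 4), (925, 0), (927, 0), (929, 0), (932, 2), (935, 5),
  (940, 2), (942, 4), (943, 4), (944, 2), (945, 2), (949, 4), (952, 5), (955, 4),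
  (957, 0), (962, 2), (964, 2), (967, 2), (968, 3), (973, 0), (975, 3), (976, 0),
  (981, 3), (982, 0), (983, 0), (984, 0), (985, 0), (988, 2), (989, 0), (990, 2),
  (991, 2), (993, 4), (994, 0), (997, 0), (998, 0), (999, 0), (1000, 5), (1001, 2),
  (1004, 2), (1006, 0), (1007, 2), (1008, 4), (1011, 2), (1014, 3), (1016, 3), (1020, 3)]

/-- witnesses for the roots of the first class -/
def rootRow : List (ℕ × ℕ) := [
  (3, 0), (9, 0), (20, 0), (30, 0), (37, 0), (40, 0), (44, 0), (47, 0),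
  (56, 0), (58, 0), (59, 14), (62, 0), (65, 25), (68, 0), (69, 25), (72, 0),
  (73, 0), (85, 0), (86, 0), (97, 0), (98, 14), (111, 0), (121, 0), (124, 1),
  (127, 1), (138, 0), (140, 14), (143, 14), (144, 0), (146, 0), (147, 0), (157, 0),
  (159, 14), (162, 0), (168, 0), (169, 0), (171, 0), (175, 0), (176, 14), (191, 0),
  (193, 0), (195, 25), (197, 0), (198, 25), (199, 0), (211, 0), (212, 25), (213, 0),
  (218, 25), (224, 0), (225, 25), (226, 0), (232, 25), (235, 0), (241, 0), (245, 0),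
  (249, 0), (273, 14), (277, 0), (280, 25), (284, 25), (292, 1), (293, 14), (296, 0),
  (307, 1), (311, 14), (312, 0), (313, 0), (314, 14), (316, 0), (317, 0), (321, 0),
  (329, 14), (332, 25), (337, 0), (348, 0), (353, 0), (355, 0), (367, 0), (369, 0),
  (370, 1), (372, 14), (373, 1), (377, 0), (378, 0), (381, 1), (382, 0), (387, 0),
  (391, 25), (396, 1), (404, 0), (407, 0), (409, 0), (410, 14), (412, 0), (415, 25),
  (418, 25), (420, 0), (422, 14), (428, 0), (430, 0), (436, 14), (437, 0), (438, 25),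
  (443, 0), (451, 25), (457, 0), (458, 0), (463, 0), (464, 14), (465, 0), (471, 0),
  (478, 0), (501, 14), (503, 0), (512, 0), (525, 0), (528, 0), (531, 14), (533, 0),
  (534, 0), (536, 0), (541, 14), (545, 0), (546, 0), (548, 25), (551, 0), (553, 0),
  (559, 25), (561, 0), (572, 0), (574, 0), (575, 0), (584, 0), (589, 0), (592, 0),
  (599, 0), (601, 1), (605, 0), (611, 1), (613, 0), (624, 0), (625, 0), (626, 25),
  (636, 14), (641, 0), (642, 0), (644, 0), (654, 0), (660, 25), (661, 14), (665, 14),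
  (667, 25), (673, 0), (675, 0), (695, 14), (696, 25), (697, 1), (701, 25), (702, 0),
  (712, 0), (720, 0), (725, 1), (726, 25), (738, 0), (739, 0), (740, 14), (741, 0),
  (744, 14), (749, 0), (750, 0), (762, 0), (768, 25), (779, 25), (780, 0), (792, 25),
  (797, 14), (798, 0), (801, 1), (802, 14), (808, 0), (812, 1), (814, 0), (823, 0),
  (854, 25), (857, 0), (860, 25), (865, 0), (869, 0), (870, 0), (871, 0), (872, 0),
  (875, 0), (878, 0), (880, 0), (889, 0), (891, 0), (900, 0), (917, 14), (920, 25),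
  (922, 14), (934, 0), (938, 0), (947, 0), (948, 0), (950, 0), (953, 0), (954, 0),
  (956, 0), (958, 0), (960, 0), (961, 0), (970, 0), (971, 1), (974, 14), (977, 25),
  (979, 1), (986, 0), (992, 0), (995, 14), (1010, 0), (1012, 0), (1013, 25), (1017, 14)]

end Cfsg.Agent.Spor.CoThreeStandard
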