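import Cfsg.Agent.Lib.Spor.CoThreeCent.SecondChecks
import Cfsg.Agent.Lib.Spor.CoThreeStandard.Data

/-!
Kernel checks for the centralizers of the two-elements of the double cover.
-/

set_option autoImplicit false
set_option maxRecDepth 100000
set_option maxHeartbeats 0
set_option Elab.async false

namespace Cfsg.Agent.Spor.CoThreeStandard

open DCoset CoThreeCent

/-- value of a word -/
def evW (w : List ℕ) : ℕ := cert.ev mu w

/-- inverse word -/
def invW (w : List ℕ) : List ℕ := w.reverse.map fun k => ivL.getD k 0

/-- central -/
def isZ (x : ℕ) : Bool := Nat.beq x idC || Nat.beq x tC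

/-- representative -/
def repC (r : ℕ) : ℕ := dh (repI.getD r 0)

theorem rep_ok : ((List.range 4).all fun r => Nat.blt (repI.getD r 0) 384 &&
    ((repW.getD r []).all fun w => w.all (fun l => Nat.blt l 6) && Nat.beq (mu (evW w) (repC r)) (mu (repC r) (evW w)))) = true := by
  decide +kernel

/-- the listed elements centralizing the test elements of a representative -/
def repRow (r i : ℕ) : Bool :=
  bif Nat.beq (mu (dh i) (repC r)) (mu (repC r) (dh i)) &&
      (repW.getD r []).all (fun w => Nat.beq (mu (dh i) (evW w)) (mu (evW w) (dh i))) then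
    isZ (dh i) || Nat.beq (dh i) (repC r) || Nat.beq (dh i) (mu (repC r) tC)
  else true

theorem rep_all : ((List.range 4).all fun r => (List.range 384).all (repRow r)) = true := by decide +kernel

/-- an element squaring into the centre is conjugate to a representative -/
def sqzRow (k : ℕ) : Bool :=
  bif isZ (mu (sylV k) (sylV k)) then
    isZ (sylV k) || zRow.any fun r => Nat.beq r.1 k && Nat.blt r.2.1 4 && r.2.2.all (fun l => Nat.blt l 6) &&
      Nat.beq (mu (evW r.2.2) (repC r.2.1)) (mu (sylV k) (evW r.2.2))
  else true

theorem sqz_all : ((List.range 1024).all sqzRow) = true := by decide +kernel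

/-- the witness product -/
def eightProd (k : ℕ) (w : List ℕ) : ℕ := mu (sylV k) (mu (mu (evW w) (sylV k)) (evW (invW w)))

/-- a root of an element squaring to the central involution moves with its conjugate -/
def eightOK (k : ℕ) : Bool :=
  bif Nat.beq (mu (mu (sylV k) (sylV k)) (mu (sylV k) (sylV k))) tC then
    eightRow.any fun r => Nat.beq r.1 k && Nat.blt r.2 eightW.length &&
      (eightW.getD r.2 []).all (fun l => Nat.blt l 6) &&
      Nat.beq (mu (evW (eightW.getD r.2 [])) (mu (sylV k) (sylV k))) (mu (mu (sylV k) (sylV k)) (evW (eightW.getD r.2 []))) &&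
      isZ (mu (eightProd k (eightW.getD r.2 [])) (eightProd k (eightW.getD r.2 []))) &&
      !isZ (eightProd k (eightW.getD r.2 [])) && !Nat.beq (eightProd k (eightW.getD r.2 [])) (mu (sylV k) (sylV k)) &&
      !Nat.beq (eightProd k (eightW.getD r.2 [])) (mu (mu (sylV k) (sylV k)) tC)
  else true

theorem eight_all0 : ((List.range' 0 512).all eightOK) = true := by decide +kernel

theorem eight_all1 : ((List.range' 512 512).all eightOK) = true := by decide +kernel

/-- a root of the first class misses a member of the class commuting with its square -/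
def rootOK (k : ℕ) : Bool :=
  bif cert.pts.elem (mu (sylV k) (sylV k)) then
    rootRow.any fun r => Nat.beq r.1 k && Nat.blt r.2 630 &&
      Nat.beq (mu (cert.pts.getD r.2 0) (mu (sylV k) (sylV k))) (mu (mu (sylV k) (sylV k)) (cert.pts.getD r.2 0)) &&
      !Nat.beq (mu (cert.pts.getD r.2 0) (sylV k)) (mu (sylV k) (cert.pts.getD r.2 0))
  else true

theorem root_all0 : ((List.range' 0 512).all rootOK) = true := by decide +kernel

theorem root_all1 : ((List.range' 512 512).all rootOK) = true := by decide +kernel

theorem ut_mem : cert.pts.elem (mu tC uC) = true := by decide +kernel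

end Cfsg.Agent.Spor.CoThreeStandard
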