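import Cfsg.Agent.Lib.Spor.CoThreeCent.SecondModel
import Cfsg.Agent.Lib.Spor.CoThreeStandard.Checks

/-!
Centralizers of two-elements in the double cover of the symplectic group.
-/

set_option autoImplicit false
set_option maxRecDepth 100000
set_option maxHeartbeats 1000000
set_option linter.style.haveILetI false

namespace Cfsg.Agent.Spor.CoThreeStandard

open DCoset CoThreeCent

attribute [local irreducible] mu pack cert idC tC sigC xL uC vC sylV dhL dh repI repW zRow eightW eightRow rootRow evW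

theorem cd_wel' (w : List ℕ) : RA.cd (RA.wel w) = evW w := by rw [RA.cd_wel, evW]

theorem invW_eq (w : List ℕ) : invW w = wInv w := by rw [invW, wInv]

theorem isZ_iff {z : MA} {x : ℕ} (hz : RA.cd z = x) : isZ x = true ↔ z = 1 ∨ z = tA := by
  simp only [isZ, Bool.or_eq_true, Nat.beq_eq, ← hz, ← cd_oneA, ← cd_tA]
  exact ⟨Or.imp (fun h => eqA h) (fun h => eqA h), Or.imp (congrArg RA.cd) (congrArg RA.cd)⟩

theorem comm_iff {a b : MA} {x y : ℕ} (ha : RA.cd a = x) (hb : RA.cd b = y) : mu x y = mu y x ↔ Commute a b := by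
  rw [← ha, ← hb, ← cd_mulA, ← cd_mulA]
  exact ⟨fun h => eqA h, fun h => congrArg RA.cd h.eq⟩

/-- the two classes are invariant under the central involution -/
theorem u_t : IsConj uA (tA * uA) := conj_of_mem (by
  rw [cd_mulA, cd_tA, cd_uA]; exact List.mem_of_elem_eq_true ut_mem)

theorem v_t : IsConj vA (tA * vA) := isB_conj (by
  rw [cd_mulA, cd_tA, cd_vA]; exact a_ok.2.2.2.2.2.2.2.2.2.2.2.2.2)

theorem u_mul_t {a : MA} (h : IsConj uA a) : IsConj uA (tA * a) := by
  obtain ⟨c, rfl⟩ := isConj_iff.1 h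
  refine u_t.trans (isConj_iff.2 ⟨c, ?_⟩)
  rw [← mul_assoc c, tA_comm c]; group

theorem v_mul_t {a : MA} (h : IsConj vA a) : IsConj vA (tA * a) := by
  obtain ⟨c, rfl⟩ := isConj_iff.1 h
  refine v_t.trans (isConj_iff.2 ⟨c, ?_⟩)
  rw [← mul_assoc c, tA_comm c]; group

theorem tA_conj (g : MA) : g * tA * g⁻¹ = tA := by rw [tA_comm, mul_inv_cancel_right]

/-- an element centralized by everything centralizing an element squaring into the centre -/
theorem centre_fact {a a0 : MA} (h2 : a * a = 1 ∨ a * a = tA) (hc : a ≠ 1 ∧ a ≠ tA)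
    (hcent : ∀ l, Commute l a → Commute l a0) : a0 = 1 ∨ a0 = tA ∨ a0 = a ∨ a0 = a * tA := by
  obtain ⟨g, k, hk, ek⟩ := exists_syl (y := a) (j := 2) (by
    rcases h2 with h | h <;> rw [show 2 ^ 2 = 2 + 2 from rfl, pow_add, pow_two, h] <;> simp [tA_sq])
  set x := g * a * g⁻¹ with hx
  have hsq : isZ (mu (sylV k) (sylV k)) = true := by
    rw [← ek, ← cd_mulA]
    refine (isZ_iff rfl).2 ?_
    rw [hx, show g * a * g⁻¹ * (g * a * g⁻¹) = g * (a * a) * g⁻¹ by group]
    rcases h2 with h | h <;> rw [h]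
    · exact Or.inl (by group)
    · exact Or.inr (tA_conj g)
  have hnz : ¬ isZ (sylV k) = true := fun h => by
    rw [← ek, isZ_iff rfl] at h
    rcases h with h | h
    · exact hc.1 (by rw [show a = g⁻¹ * x * g by rw [hx]; group, h]; group)
    · refine hc.2 ?_
      rw [show a = g⁻¹ * x * g⁻¹⁻¹ by rw [hx]; group, h, tA_conj]
  have hrow := List.all_eq_true.1 sqz_all k (List.mem_range.2 hk)
  rw [sqzRow, hsq, cond_true, Bool.or_eq_true] at hrow
  obtain ⟨row, -, hr⟩ := List.any_eq_true.1 (hrow.resolve_left hnz)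
  simp only [Bool.and_eq_true, Nat.beq_eq, Nat.blt_eq, List.all_eq_true] at hr
  obtain ⟨⟨⟨-, hr4⟩, hw⟩, hconj⟩ := hr
  have hrep := List.all_eq_true.1 rep_ok row.2.1 (List.mem_range.2 hr4)
  simp only [Bool.and_eq_true, Nat.blt_eq, Nat.beq_eq, List.all_eq_true] at hrep
  obtain ⟨hi, hgens⟩ := hrep
  set p := dA (repI.getD row.2.1 0) with hp
  have cp : RA.cd p = repC row.2.1 := cd_dA hi
  set c := g⁻¹ * RA.wel row.2.2 with hcdef
  have hap : a = c * p * c⁻¹ := by
    have e : RA.wel row.2.2 * p = x * RA.wel row.2.2 := eqA (by rw [cd_mulA, cd_mulA, cd_wel', cp, ek, hconj])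
    rw [hcdef, show g⁻¹ * RA.wel row.2.2 * p * (g⁻¹ * RA.wel row.2.2)⁻¹ =
      g⁻¹ * (RA.wel row.2.2 * p) * (RA.wel row.2.2)⁻¹ * g by group, e, hx]
    group
  set q := c⁻¹ * a0 * c with hq
  have hqa : ∀ l, Commute l p → Commute l q := fun l hl => by
    have h1 : Commute (c * l * c⁻¹) a := by
      rw [hap]
      show c * l * c⁻¹ * (c * p * c⁻¹) = c * p * c⁻¹ * (c * l * c⁻¹)
      rw [show c * l * c⁻¹ * (c * p * c⁻¹) = c * (l * p) * c⁻¹ by group, hl.eq]; group
    have h2 := hcent _ h1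
    show l * q = q * l
    calc l * q = c⁻¹ * (c * l * c⁻¹ * a0) * c := by rw [hq]; group
      _ = c⁻¹ * (a0 * (c * l * c⁻¹)) * c := by rw [h2.eq]
      _ = q * l := by rw [hq]; group
  obtain ⟨i, hi', hqi⟩ := cent_list (hqa vA (dA_comm hi).symm).symm
  have hall := List.all_eq_true.1 (List.all_eq_true.1 rep_all row.2.1 (List.mem_range.2 hr4)) i (List.mem_range.2 hi')
  have cond : (Nat.beq (mu (dh i) (repC row.2.1)) (mu (repC row.2.1) (dh i)) &&
      (repW.getD row.2.1 []).all (fun w => Nat.beq (mu (dh i) (evW w)) (mu (evW w) (dh i)))) = true := by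
    rw [Bool.and_eq_true, List.all_eq_true, Nat.beq_eq, comm_iff (cd_dA hi') cp, ← hqi]
    refine ⟨(hqa p (Commute.refl p)).symm, fun w hw' => ?_⟩
    rw [Nat.beq_eq, comm_iff (cd_dA hi') (cd_wel' w), ← hqi]
    exact (hqa _ ((comm_iff (cd_wel' w) cp).1 (hgens w hw').2)).symm
  rw [repRow, cond, cond_true] at hall
  simp only [Bool.or_eq_true, Nat.beq_eq, isZ_iff (cd_dA hi')] at hall
  rw [← hqi] at hall
  have back : a0 = c * q * c⁻¹ := by rw [hq]; group
  rcases hall with ((h | h) | h) | h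
  · left; rw [back, h]; group
  · right; left; rw [back, h, tA_conj]
  · right; right; left
    rw [back, hqi, eqA (show RA.cd (dA i) = RA.cd p by rw [cd_dA hi', h, cp]), hap]
  · right; right; right
    rw [back, hqi, eqA (show RA.cd (dA i) = RA.cd (p * tA) by rw [cd_dA hi', h, cd_mulA, cp, cd_tA]), hap,
      mul_assoc _ c⁻¹, tA_comm c⁻¹, ← mul_assoc c p]
    group

/-- a root of an element squaring to the central involution -/
theorem eight_fact {a : MA} (h : a * a * (a * a) = tA) :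
    ∃ c, Commute c (a * a) ∧ (a * (c * a * c⁻¹) * (a * (c * a * c⁻¹)) = 1 ∨ a * (c * a * c⁻¹) * (a * (c * a * c⁻¹)) = tA) ∧
      a * (c * a * c⁻¹) ≠ 1 ∧ a * (c * a * c⁻¹) ≠ tA ∧ a * (c * a * c⁻¹) ≠ a * a ∧
      a * (c * a * c⁻¹) ≠ a * a * tA := by
  obtain ⟨g, k, hk, ek⟩ := exists_syl (y := a) (j := 3) (by
    rw [show 2 ^ 3 = (2 + 2) + (2 + 2) from rfl, pow_add, pow_add, pow_two, h, tA_sq])
  set x := g * a * g⁻¹ with hx
  have h4 : x * x * (x * x) = tA := by
    rw [hx, show g * a * g⁻¹ * (g * a * g⁻¹) * (g * a * g⁻¹ * (g * a * g⁻¹)) = g * (a * a * (a * a)) * g⁻¹ by group, h,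
      tA_conj]
  have hcond : Nat.beq (mu (mu (sylV k) (sylV k)) (mu (sylV k) (sylV k))) tC = true := by
    rw [Nat.beq_eq, ← ek, ← cd_mulA, ← cd_mulA, h4, cd_tA]
  have hok : eightOK k = true := by
    rcases Nat.lt_or_ge k 512 with h' | h'
    · exact List.all_eq_true.1 eight_all0 k (List.mem_range'_1.2 ⟨Nat.zero_le k, by omega⟩)
    · exact List.all_eq_true.1 eight_all1 k (List.mem_range'_1.2 ⟨h', by omega⟩)
  rw [eightOK, hcond, cond_true, List.any_eq_true] at hok
  obtain ⟨r, -, hr⟩ := hok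
  simp only [Bool.and_eq_true, Bool.not_eq_true'] at hr
  obtain ⟨⟨⟨⟨⟨⟨-, hw⟩, hcm⟩, hsq⟩, hb⟩, hb1⟩, hb2⟩ := hr
  simp only [List.all_eq_true, Nat.blt_eq] at hw
  set d := RA.wel (eightW.getD r.2 []) with hd
  have cinv : RA.cd d⁻¹ = evW (invW (eightW.getD r.2 [])) := by rw [hd, ← wel_inv _ hw, invW_eq, cd_wel']
  set b := x * (d * x * d⁻¹) with hbdef
  have cb : RA.cd b = eightProd k (eightW.getD r.2 []) := by
    rw [hbdef, eightProd, cd_mulA x, cd_mulA (d * x), cd_mulA d x, cinv, ek, hd, cd_wel']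
  have hbx : a * (g⁻¹ * d * g * a * (g⁻¹ * d * g)⁻¹) = g⁻¹ * b * g := by rw [hbdef, hx]; group
  have hxx : a * a = g⁻¹ * (x * x) * g := by rw [hx]; group
  have moved : ∀ y : MA, g⁻¹ * b * g = g⁻¹ * y * g → b = y := fun y e => by
    simpa using e
  refine ⟨g⁻¹ * d * g, ?_, ?_, ?_, ?_, ?_, ?_⟩
  · have hc : Commute d (x * x) := (comm_iff (cd_wel' _) (by rw [cd_mulA, ek])).1 (Nat.eq_of_beq_eq_true hcm)
    show g⁻¹ * d * g * (a * a) = a * a * (g⁻¹ * d * g)
    rw [hxx, show g⁻¹ * d * g * (g⁻¹ * (x * x) * g) = g⁻¹ * (d * (x * x)) * g by group, hc.eq]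
    group
  · rw [hbx, show g⁻¹ * b * g * (g⁻¹ * b * g) = g⁻¹ * (b * b) * g by group]
    rcases (isZ_iff (by rw [cd_mulA, cb])).1 hsq with h' | h' <;> rw [h']
    · exact Or.inl (by group)
    · refine Or.inr ?_
      conv_lhs => rw [show g⁻¹ * tA * g = g⁻¹ * tA * g⁻¹⁻¹ by group]
      exact tA_conj _
  · rw [hbx]
    intro e
    have : b = 1 := moved 1 (e.trans (by group))
    rw [(isZ_iff cb).2 (Or.inl this)] at hb
    exact Bool.noConfusion hb
  · rw [hbx]
    intro e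
    have : b = tA := moved tA (e.trans (by rw [mul_assoc, ← tA_comm g, inv_mul_cancel_left]))
    rw [(isZ_iff cb).2 (Or.inr this)] at hb
    exact Bool.noConfusion hb
  · rw [hbx, hxx]
    intro e
    rw [← cb, moved _ e, cd_mulA, ek, Nat.beq_refl] at hb1
    exact Bool.noConfusion hb1
  · rw [hbx, hxx]
    intro e
    have : b = x * x * tA := moved _ (e.trans (by rw [mul_assoc (g⁻¹ * (x * x)) g tA, tA_comm g]; group))
    rw [← cb, this, cd_mulA, cd_mulA, ek, cd_tA, Nat.beq_refl] at hb2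
    exact Bool.noConfusion hb2

/-- a root of the first class misses a member of the class commuting with its square -/
theorem root_fact {a : MA} (h : IsConj uA (a * a)) :
    ∃ u2, IsConj uA u2 ∧ Commute u2 (a * a) ∧ ¬ Commute u2 a := by
  have uu : (a * a) * (a * a) = 1 := by
    obtain ⟨c, hc⟩ := isConj_iff.1 h
    rw [← hc, show c * uA * c⁻¹ * (c * uA * c⁻¹) = c * (uA * uA) * c⁻¹ by group, uA_sq]; group
  obtain ⟨g, k, hk, ek⟩ := exists_syl (y := a) (j := 2) (by rw [show 2 ^ 2 = 2 + 2 from rfl, pow_add, pow_two, uu])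
  set x := g * a * g⁻¹ with hx
  have hcond : cert.pts.elem (mu (sylV k) (sylV k)) = true := by
    rw [← ek, ← cd_mulA]
    refine List.elem_eq_true_of_mem (conj_in_pts (h.trans (isConj_iff.2 ⟨g, ?_⟩)))
    rw [hx]; group
  have hok : rootOK k = true := by
    rcases Nat.lt_or_ge k 512 with h' | h'
    · exact List.all_eq_true.1 root_all0 k (List.mem_range'_1.2 ⟨Nat.zero_le k, by omega⟩)
    · exact List.all_eq_true.1 root_all1 k (List.mem_range'_1.2 ⟨h', by omega⟩)
  rw [rootOK, hcond, cond_true, List.any_eq_true] at hok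
  obtain ⟨r, -, hr⟩ := hok
  simp only [Bool.and_eq_true, Bool.not_eq_true', Nat.blt_eq] at hr
  obtain ⟨⟨⟨-, hj⟩, hcm⟩, hnc⟩ := hr
  obtain ⟨hp, -, -, -⟩ := pts_spec (R := RA) cert_ok.pts
  have hjl : r.2 < cert.pts.length := lengths.2.2.2.2.2.2.2.symm ▸ hj
  set y := RA.wel (cert.pw.getD r.2 [])
  have cy : RA.cd y = cert.pts.getD r.2 0 := (hp r.2 hjl).symm
  have yu : IsConj uA y := conj_of_mem (by rw [cy, List.getD_eq_getElem _ _ hjl]; exact List.getElem_mem _)
  refine ⟨g⁻¹ * y * g, yu.trans (isConj_iff.2 ⟨g⁻¹, by group⟩), ?_, fun hc => ?_⟩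
  · have hc : Commute y (x * x) := (comm_iff cy (by rw [cd_mulA, ek])).1 (Nat.eq_of_beq_eq_true hcm)
    show g⁻¹ * y * g * (a * a) = a * a * (g⁻¹ * y * g)
    rw [show a * a = g⁻¹ * (x * x) * g by rw [hx]; group,
      show g⁻¹ * y * g * (g⁻¹ * (x * x) * g) = g⁻¹ * (y * (x * x)) * g by group, hc.eq]
    group
  · have hc' : Commute y x := by
      show y * x = x * y
      calc y * x = g * (g⁻¹ * y * g * a) * g⁻¹ := by rw [hx]; group
        _ = g * (a * (g⁻¹ * y * g)) * g⁻¹ := by rw [hc.eq]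
        _ = _ := by rw [hx]; group
    rw [(comm_iff cy ek).2 hc', Nat.beq_refl] at hnc
    exact Bool.noConfusion hnc

end Cfsg.Agent.Spor.CoThreeStandard
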