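import Cfsg.Agent.Lib.Spor.CoThreeStandard.Local
import Cfsg.Agent.Lib.Spor.CoThreeCent.Finish
import Cfsg.Agent.Lib.Spor.DoubleCoverStandard.Local
import Cfsg.Agent.S0814
import Cfsg.Agent.S0246

/-!
The third Conway group from a standard component which is the double cover of the symplectic group.
-/

set_option autoImplicit false
set_option maxRecDepth 100000
set_option maxHeartbeats 1000000
set_option linter.style.haveILetI false

namespace Cfsg.Agent.Spor.CoThreeStandard

open CoThreeCent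
open scoped commutatorElement

attribute [local irreducible] mu pack cert idC tC sigC xL uC vC

theorem sp_center_bot {F : Type} [Field F] [Fintype F] (hF : Fintype.card F = 2) :
    Subgroup.center (Matrix.symplecticGroup (Fin 3) F) = ⊥ := by
  haveI : Finite (Matrix.symplecticGroup (Fin 3) F) := inferInstance
  exact Subgroup.eq_bot_of_card_eq _ (by rw [Cfsg.Agent.S0246.result hF 3 (by norm_num)]; rfl)

theorem mapJ {R T : Type*} [CommRing R] [CommRing T] (g : R →+* T)
    (A : Matrix (Fin 3 ⊕ Fin 3) (Fin 3 ⊕ Fin 3) R) (hA : A ∈ Matrix.symplecticGroup (Fin 3) R) :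
    g.mapMatrix A ∈ Matrix.symplecticGroup (Fin 3) T := by
  rw [SymplecticGroup.mem_iff] at hA ⊢
  have hJ : g.mapMatrix (Matrix.J (Fin 3) R) = Matrix.J (Fin 3) T := by
    ext (i | i) (j | j) <;> by_cases h : i = j <;> simp [Matrix.J, h]
  have ht : (g.mapMatrix A).transpose = g.mapMatrix A.transpose := rfl
  rw [ht, ← hJ, ← map_mul, ← map_mul, hA]

theorem psp_sp {F : Type*} [Field F] [Fintype F] (hF : Fintype.card F = 2) : Nonempty (Cfsg.PSp 3 F ≃* Sp6) := by
  let e : ZMod 2 ≃+* F := ZMod.ringEquivOfPrime F Nat.prime_two hF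
  let f : Matrix.symplecticGroup (Fin 3) (ZMod 2) ≃* Matrix.symplecticGroup (Fin 3) F :=
    { toFun := fun A => ⟨e.toRingHom.mapMatrix A.1, mapJ _ _ A.2⟩
      invFun := fun A => ⟨e.symm.toRingHom.mapMatrix A.1, mapJ _ _ A.2⟩
      left_inv := fun A => Subtype.ext (by ext i j; simp)
      right_inv := fun A => Subtype.ext (by ext i j; simp)
      map_mul' := fun A B => Subtype.ext (map_mul e.toRingHom.mapMatrix A.1 B.1) }
  have hc : Subgroup.center (Matrix.symplecticGroup (Fin 3) F) = ⊥ := by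
    refine eq_bot_iff.2 fun x hx => Subgroup.mem_bot.2 ?_
    have hx' : f.symm x ∈ Subgroup.center (Matrix.symplecticGroup (Fin 3) (ZMod 2)) :=
      Subgroup.mem_center_iff.2 fun y => f.injective (by
        rw [map_mul, map_mul, f.apply_symm_apply, Subgroup.mem_center_iff.1 hx])
    rw [sp_center_bot (ZMod.card 2), Subgroup.mem_bot] at hx'
    rw [← f.apply_symm_apply x, hx', map_one]
  exact ⟨((QuotientGroup.quotientMulEquivOfEq hc).trans QuotientGroup.quotientBot).trans f.symm⟩

theorem sp_aut_inner (ψ : Sp6 ≃* Sp6) : ∃ q, ∀ x, ψ x = q * x * q⁻¹ := by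
  have hc : Subgroup.center Sp6 = ⊥ := sp_center_bot (ZMod.card 2)
  obtain ⟨eP⟩ := psp_sp (F := ZMod 2) (ZMod.card 2)
  haveI : Finite Sp6 := inferInstance
  haveI : Fact (Nat.Prime 2) := ⟨Nat.prime_two⟩
  have hcard : Nat.card (MulAut Sp6) = Nat.card Sp6 := by
    rw [← Nat.card_congr (MulAut.congr eP).toEquiv, ← Nat.card_congr eP.toEquiv,
      Cfsg.Agent.S0814.result 2 1 le_rfl (by simp) 3 (by norm_num) (by norm_num)]
    simp
  have hinj : Function.Injective (MulAut.conj : Sp6 →* MulAut Sp6) := by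
    rw [← MonoidHom.ker_eq_bot_iff, eq_bot_iff, ← hc]
    intro x hx
    refine Subgroup.mem_center_iff.2 fun y => ?_
    have h : x * y * x⁻¹ = y := by
      have := DFunLike.congr_fun (MonoidHom.mem_ker.1 hx) y
      simpa [MulAut.conj_apply] using this
    exact (mul_inv_eq_iff_eq_mul.1 h).symm
  haveI : Finite (MulAut Sp6) := Nat.finite_of_card_ne_zero (by rw [hcard]; exact Nat.card_pos.ne')
  obtain ⟨q, hq⟩ := ((Nat.bijective_iff_injective_and_card _).2 ⟨hinj, hcard.symm⟩).2 ψ
  exact ⟨q, fun x => by rw [← hq]; rfl⟩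

theorem center_MA {a : MA} : a ∈ Subgroup.center MA ↔ a = 1 ∨ a = tA := by
  rw [Subgroup.mem_center_iff]
  refine ⟨fun h => central_cases fun b => (h b).symm, ?_⟩
  rintro (rfl | rfl) b
  · simp
  · exact tA_comm b

theorem ma_aut_inner (φ : MA ≃* MA) : ∃ a : MA, ∀ x, φ x = a * x * a⁻¹ :=
  DoubleCoverStandard.aut_inner_of ⟨perfect_MA⟩ piA piA_surj
    (by ext a; rw [MonoidHom.mem_ker, piA_ker, center_MA]) sp_aut_inner φ

/-- the group is the third Conway group -/
theorem iso_of_standard {G : Type*} [Group G] [Finite G] [IsSimpleGroup G]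
    (hbal : ∀ t : G, orderOf t = 2 → Cfsg.centralizerPPrimeCore 2 t = ⊥)
    (L : Subgroup G) (hL : Cfsg.IsStandardSubgroup L) (hZ : Nat.card ↥(Subgroup.center ↥L) = 2)
    (hQ : Nonempty (↥L ⧸ Subgroup.center ↥L ≃* Sp6)) : Nonempty (G ≃* ↥Cfsg.Spor.Co3) := by
  classical
  obtain ⟨⟨hperf, -⟩, ⟨-, hte⟩, -, hnorm⟩ := hL
  have hcov : Cfsg.IsNonsplitDoubleCover ↥L Sp6 := by
    refine ⟨hZ, hQ, fun K hK => ?_⟩
    haveI : K.Normal := ⟨fun n hn g => by
      obtain ⟨⟨c, k⟩, hck⟩ := hK.2 g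
      have hc : ∀ y, (c : ↥L) * y = y * c := fun y => (Subgroup.mem_center_iff.1 c.2 y).symm
      rw [← show (c : ↥L) * k = g from hck, show (c : ↥L) * k * n * ((c : ↥L) * k)⁻¹ = c * ((k : ↥L) * n * (k : ↥L)⁻¹) * (c : ↥L)⁻¹ by group,
        hc, mul_inv_cancel_right]
      exact mul_mem (mul_mem k.2 hn) (inv_mem k.2)⟩
    have hle : commutator ↥L ≤ K := by
      rw [commutator_def, Subgroup.commutator_le]
      have comb : ∀ (c c' k k' : ↥L), c ∈ Subgroup.center ↥L → c' ∈ Subgroup.center ↥L → k ∈ K → k' ∈ K →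
          ⁅c * k, c' * k'⁆ ∈ K := by
        intro c c' k k' hc hc' hk hk'
        have m1 : ∀ y, y * c = c * y := Subgroup.mem_center_iff.1 hc
        have m2 : ∀ y, y * c' = c' * y := Subgroup.mem_center_iff.1 hc'
        have : ⁅c * k, c' * k'⁆ = ⁅k, k'⁆ := by
          rw [commutatorElement_def, commutatorElement_def]
          calc c * k * (c' * k') * (c * k)⁻¹ * (c' * k')⁻¹
              = c * (k * c') * k' * k⁻¹ * (c⁻¹ * k'⁻¹) * c'⁻¹ := by group
            _ = c * (c' * k) * k' * k⁻¹ * (k'⁻¹ * c⁻¹) * c'⁻¹ := by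
              rw [m2 k, (show Commute c⁻¹ k'⁻¹ from ((show Commute k'⁻¹ c from m1 _).inv_right).symm).eq]
            _ = c * c' * (k * k' * k⁻¹ * k'⁻¹) * (c' * c)⁻¹ := by group
            _ = k * k' * k⁻¹ * k'⁻¹ := by
              rw [← Subgroup.mem_center_iff.1 (mul_mem hc hc'), ← m1 c', mul_inv_cancel_right]
        rw [this, commutatorElement_def]
        exact mul_mem (mul_mem (mul_mem hk hk') (inv_mem hk)) (inv_mem hk')
      intro x _ y _
      obtain ⟨⟨c, k⟩, rfl⟩ := hK.2 x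
      obtain ⟨⟨c', k'⟩, rfl⟩ := hK.2 y
      exact comb _ _ _ _ c.2 c'.2 k.2 k'.2
    rw [hperf.commutator_eq_top, top_le_iff] at hle
    rw [hle, Subgroup.isComplement'_top_right] at hK
    rw [hK, Subgroup.card_bot] at hZ
    norm_num at hZ
  obtain ⟨e⟩ := cover_iso hcov
  set φ : MA →* G := L.subtype.comp e.symm.toMonoidHom with hφ
  have hinj : Function.Injective φ := L.subtype_injective.comp e.symm.injective
  have hrange : φ.range = L := by
    rw [hφ, MonoidHom.range_comp, MonoidHom.range_eq_top.2 e.symm.surjective, ← MonoidHom.range_eq_map,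
      Subgroup.range_subtype]
  have hset : Set.range φ = (L : Set G) := by rw [← hrange, MonoidHom.coe_range]
  have hzC : φ tA ∈ Subgroup.centralizer (Set.range φ) := by
    rw [Subgroup.mem_centralizer_iff]
    rintro _ ⟨a, rfl⟩
    rw [← map_mul, tA_comm, map_mul]
  have hz1 : φ tA ≠ 1 := fun h => tA_ne (hinj (h.trans (map_one _).symm))
  have hzz : φ tA * φ tA = 1 := by rw [← map_mul, tA_sq, map_one]
  have fixes : ∀ g : G, g ∈ Subgroup.normalizer (L : Set G) → Commute g (φ tA) := by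
    intro g hg
    have hmem : g * φ tA * g⁻¹ ∈ L := (Subgroup.mem_normalizer_iff.1 hg _).1 (hrange ▸ ⟨tA, rfl⟩)
    rw [← hrange] at hmem
    obtain ⟨a, ha⟩ := hmem
    have hcen : a ∈ Subgroup.center MA := Subgroup.mem_center_iff.2 fun b => by
      have hb : g⁻¹ * φ b * g ∈ L := by
        have := (Subgroup.mem_normalizer_iff.1 (inv_mem hg) (φ b)).1 (hrange ▸ ⟨b, rfl⟩)
        rwa [inv_inv] at this
      rw [← hrange] at hb
      obtain ⟨b', hb'⟩ := hb
      refine hinj ?_
      rw [map_mul, map_mul, ha, show φ b = g * φ b' * g⁻¹ by rw [hb']; group,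
        show g * φ b' * g⁻¹ * (g * φ tA * g⁻¹) = g * (φ b' * φ tA) * g⁻¹ by group, ← map_mul, tA_comm, map_mul]
      group
    rcases center_MA.1 hcen with rfl | rfl
    · rw [map_one] at ha
      exact absurd (conj_eq_one_iff.1 ha.symm) hz1
    · exact mul_inv_eq_iff_eq_mul.1 ha.symm
  have tight : ∀ g x : G, x ∈ Subgroup.centralizer (Set.range φ) → x ≠ 1 → (∃ m : ℕ, x ^ 2 ^ m = 1) →
      g * x * g⁻¹ ∈ Subgroup.centralizer (Set.range φ) → g ∈ Subgroup.normalizer (L : Set G) := by
    rw [hset]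
    intro g x hx x1 ⟨m, hm⟩ hgx
    rw [hnorm]
    by_contra hne
    obtain ⟨k, -, hk⟩ := (Nat.dvd_prime_pow Nat.prime_two).1 (orderOf_dvd_of_pow_eq_one hm)
    have hk0 : k ≠ 0 := fun h => x1 (orderOf_eq_one_iff.1 (by rw [hk, h, pow_zero]))
    have hd := Subgroup.orderOf_dvd_natCard
      (Subgroup.centralizer (L : Set G) ⊓ (Subgroup.centralizer (L : Set G)).map (MulAut.conj g).toMonoidHom)
      (x := g * x * g⁻¹) ⟨hgx, x, hx, rfl⟩
    have ho : orderOf (g * x * g⁻¹) = orderOf x := by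
      rw [show g * x * g⁻¹ = MulAut.conj g x from rfl, MulEquiv.orderOf_eq]
    rw [ho, hk] at hd
    have : 2 ∣ Nat.card ↥(Subgroup.centralizer (L : Set G) ⊓
        (Subgroup.centralizer (L : Set G)).map (MulAut.conj g).toMonoidHom) :=
      (dvd_pow_self 2 hk0).trans hd
    exact (Nat.not_even_iff_odd.2 (hte g hne)) (even_iff_two_dvd.2 this)
  have split : ∀ g : G, Commute g (φ tA) → ∃ a, ∃ c ∈ Subgroup.centralizer (Set.range φ), g = φ a * c := by
    intro g hg
    have hgN := tight g (φ tA) hzC hz1 ⟨1, by rw [pow_one, pow_two, hzz]⟩ (by rw [hg.eq, mul_inv_cancel_right]; exact hzC)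
    let ψ : MA ≃* MA := (e.symm.trans (L.normalizerMonoidHom ⟨g, hgN⟩)).trans e
    obtain ⟨a, ha⟩ := ma_aut_inner ψ
    have hψ : ∀ x, φ (ψ x) = g * φ x * g⁻¹ := fun x => by
      show ((e.symm (e _) : ↥L) : G) = _
      rw [e.symm_apply_apply]
      rfl
    refine ⟨a, (φ a)⁻¹ * g, ?_, by group⟩
    rw [Subgroup.mem_centralizer_iff]
    rintro _ ⟨x, rfl⟩
    have h := hψ x
    rw [ha, map_mul, map_mul, map_inv] at h
    have h2 : g * φ x = φ a * φ x * (φ a)⁻¹ * g := by rw [h, inv_mul_cancel_right]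
    rw [mul_assoc _ g, h2]
    group
  let S : Std G := ⟨φ, hinj, split, fun g x hx x1 hm hgx => fixes g (tight g x hx x1 hm hgx)⟩
  have hord : orderOf (φ tA) = 2 := orderOf_eq_prime (by rw [pow_two, hzz]) hz1
  have hO : Cfsg.oddCore G = ⊥ := by
    haveI : (Cfsg.pPrimeCore 2 G).Normal := inferInstance
    refine ((Subgroup.Normal.eq_bot_or_eq_top (inferInstance : (Cfsg.pPrimeCore 2 G).Normal))).resolve_right fun h => ?_
    have h2 := Fusion.card_pPrimeCore_coprime 2 G
    rw [h, Subgroup.card_top, Nat.coprime_two_right, Nat.odd_iff] at h2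
    have := orderOf_dvd_natCard (φ tA)
    rw [hord] at this
    omega
  have hnc : Subgroup.center G = ⊥ := by
    refine (Subgroup.Normal.eq_bot_or_eq_top inferInstance).resolve_right fun h => ?_
    have : ∀ a : MA, a * uA = uA * a := fun a => hinj (by
      rw [map_mul, map_mul]; exact Subgroup.mem_center_iff.1 (h ▸ Subgroup.mem_top (φ uA)) (φ a))
    rcases central_cases (a := uA) (fun b => (this b).symm) with h' | h'
    · exact uA_ne.1 h'
    · exact uA_ne.2 h'
  obtain ⟨g0, hg0⟩ : ∃ g, S.Pair g := by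
    by_contra hno
    push Not at hno
    have hiso : ∀ g : G, Commute (φ tA) (g * φ tA * g⁻¹) → g * φ tA * g⁻¹ = φ tA := fun g hc => by
      by_contra hne
      exact hno g ⟨hc.symm, fun hm => hne (by rw [hm.eq, mul_inv_cancel_right])⟩
    have hz := Char.zStar_isolated (z := φ tA) ⟨hord, hiso⟩
    have htc : φ tA ∈ Subgroup.center G := Subgroup.mem_center_iff.2 fun g => by
      have hm := hz g
      rw [hO, Subgroup.mem_bot] at hm
      exact (mul_inv_eq_iff_eq_mul.1 (mul_inv_eq_one.1 hm)).symm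
    rw [hnc, Subgroup.mem_bot] at htc
    exact hz1 htc
  have hO' : Cfsg.pPrimeCore 2 ↥(Subgroup.centralizer ({S.z} : Set G)) = ⊥ :=
    (Subgroup.map_eq_bot_iff_of_injective _ (Subgroup.centralizer ({S.z} : Set G)).subtype_injective).1 (hbal _ hord)
  have hcent : Subgroup.centralizer ({φ tA} : Set G) = L := by
    refine le_antisymm (fun g hg => ?_) fun g hg => ?_
    · obtain ⟨a, c, hc, rfl⟩ := split g (Subgroup.mem_centralizer_singleton_iff.1 hg)
      rcases hg0.cent_eq hO' c hc with rfl | rfl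
      · rw [← hrange, mul_one]; exact ⟨a, rfl⟩
      · rw [← hrange]; exact ⟨a * tA, map_mul _ _ _⟩
    · exact Subgroup.mem_centralizer_singleton_iff.2 (Subgroup.mem_centralizer_iff.1 hzC g (by rw [hset]; exact hg))
  exact CoThreeCent.iso_co3 hO hnc (φ tA) hord (hcent ▸ hcov)

end Cfsg.Agent.Spor.CoThreeStandard
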