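import Cfsg.Agent.Lib.Spor.CoThreeStandard.Facts
import Cfsg.Agent.Lib.Fusion.Cores
import Mathlib.GroupTheory.SchurZassenhaus

/-!
A standard double cover of the symplectic group: the centralizer of the component is the centre.
-/

set_option autoImplicit false
set_option maxRecDepth 100000
set_option maxHeartbeats 1000000
set_option linter.style.haveILetI false

namespace Cfsg.Agent.Spor.CoThreeStandard

open CoThreeCent

attribute [local irreducible] mu pack cert idC tC sigC xL uC vC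

/-- the component with the centralizer -/
structure Std (G : Type*) [Group G] where
  φ : MA →* G
  inj : Function.Injective φ
  split : ∀ g : G, Commute g (φ tA) → ∃ a, ∃ c ∈ Subgroup.centralizer (Set.range φ), g = φ a * c
  tight : ∀ g x : G, x ∈ Subgroup.centralizer (Set.range φ) → x ≠ 1 → (∃ m : ℕ, x ^ 2 ^ m = 1) →
    g * x * g⁻¹ ∈ Subgroup.centralizer (Set.range φ) → Commute g (φ tA)

namespace Std

variable {G : Type*} [Group G] (S : Std G)

/-- the centralizer of the component -/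
abbrev C : Subgroup G := Subgroup.centralizer (Set.range S.φ)

/-- the central involution -/
noncomputable abbrev z : G := S.φ tA

theorem comm {c : G} (hc : c ∈ S.C) (a : MA) : Commute (S.φ a) c :=
  Subgroup.mem_centralizer_iff.1 hc _ ⟨a, rfl⟩

theorem z_sq : S.z * S.z = 1 := by rw [z, ← map_mul, tA_sq, map_one]

theorem z_ne : S.z ≠ 1 := fun h => tA_ne (S.inj (h.trans (map_one _).symm))

theorem z_mem : S.z ∈ S.C := by
  rw [Subgroup.mem_centralizer_iff]
  rintro _ ⟨a, rfl⟩
  rw [z, ← map_mul, tA_comm, map_mul]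

theorem z_comm {a : MA} {c : G} (hc : c ∈ S.C) : Commute (S.φ a * c) S.z := by
  refine Commute.mul_left ?_ (S.comm hc tA).symm
  show _ * _ = _ * _
  rw [z, ← map_mul, tA_comm, map_mul]

theorem phi_mem {a : MA} (h : S.φ a ∈ S.C) : a = 1 ∨ a = tA :=
  central_cases fun b => S.inj (by
    rw [map_mul, map_mul]; exact ((S.comm h b).eq).symm)

theorem uniq {a a' : MA} {c c' : G} (hc : c ∈ S.C) (hc' : c' ∈ S.C) (h : S.φ a * c = S.φ a' * c') :
    a' = a ∨ a' = a * tA := by
  have : S.φ (a⁻¹ * a') ∈ S.C := by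
    have e : S.φ (a⁻¹ * a') = c * c'⁻¹ := by
      rw [map_mul, map_inv, inv_mul_eq_iff_eq_mul, ← mul_assoc, h, mul_inv_cancel_right]
    rw [e]; exact mul_mem hc (inv_mem hc')
  rcases S.phi_mem this with e | e
  · exact Or.inl (inv_mul_eq_one.1 e).symm
  · exact Or.inr (inv_mul_eq_iff_eq_mul.1 e)

theorem mul_split {a a' : MA} {c c' : G} (hc : c ∈ S.C) :
    S.φ a * c * (S.φ a' * c') = S.φ (a * a') * (c * c') := by
  calc S.φ a * c * (S.φ a' * c') = S.φ a * (c * S.φ a') * c' := by group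
    _ = S.φ a * (S.φ a' * c) * c' := by rw [(S.comm hc a').eq]
    _ = _ := by rw [map_mul]; group

theorem sq_center {a : MA} {c : G} (hc : c ∈ S.C) (h : (S.φ a * c) * (S.φ a * c) ∈ S.C) : a * a = 1 ∨ a * a = tA := by
  rw [S.mul_split hc] at h
  refine S.phi_mem ?_
  have := mul_mem h (inv_mem (mul_mem hc hc))
  rwa [mul_inv_cancel_right] at this

theorem commute_split {a l : MA} {c : G} (hc : c ∈ S.C) (h : Commute l a) : Commute (S.φ l) (S.φ a * c) :=
  (h.map S.φ).mul_right (S.comm hc l)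

theorem commute_of {a l : MA} {c : G} (hc : c ∈ S.C) (h : Commute (S.φ l) (S.φ a * c)) : Commute l a := by
  have h2 : Commute (S.φ l) (S.φ a) := by
    have := h.mul_right (S.comm (inv_mem hc) l)
    rwa [mul_inv_cancel_right] at this
  exact S.inj (by rw [map_mul, map_mul]; exact h2.eq)

/-- a conjugate of the central involution commuting with it -/
structure Pair (g : G) : Prop where
  comm : Commute (g * S.z * g⁻¹) S.z
  moved : ¬ Commute g S.z

variable {S}

theorem Pair.inv {g : G} (h : S.Pair g) : S.Pair g⁻¹ := by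
  refine ⟨?_, fun h' => h.moved (by simpa using h'.inv_left)⟩
  show g⁻¹ * S.z * g⁻¹⁻¹ * S.z = S.z * (g⁻¹ * S.z * g⁻¹⁻¹)
  calc g⁻¹ * S.z * g⁻¹⁻¹ * S.z = g⁻¹ * (S.z * (g * S.z * g⁻¹)) * g := by group
    _ = g⁻¹ * (g * S.z * g⁻¹ * S.z) * g := by rw [h.comm.eq]
    _ = _ := by group

/-- two-elements do not move into the centralizer -/
theorem Pair.not_mem {g x : G} (h : S.Pair g) (hx : x ∈ S.C) (x1 : x ≠ 1) (h2 : ∃ m : ℕ, x ^ 2 ^ m = 1) :
    g⁻¹ * x * g ∉ S.C := by
  intro hm
  refine h.inv.moved (S.tight g⁻¹ x hx x1 h2 ?_)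
  rwa [inv_inv]

theorem Pair.split_back {g x : G} (_h : S.Pair g) (hc : Commute x (g * S.z * g⁻¹)) :
    ∃ a, ∃ b ∈ S.C, g⁻¹ * x * g = S.φ a * b := by
  refine S.split _ ?_
  show g⁻¹ * x * g * S.z = S.z * (g⁻¹ * x * g)
  calc g⁻¹ * x * g * S.z = g⁻¹ * (x * (g * S.z * g⁻¹)) * g := by group
    _ = g⁻¹ * (g * S.z * g⁻¹ * x) * g := by rw [hc.eq]
    _ = _ := by group

theorem Pair.split_z {g : G} (h : S.Pair g) : ∃ a, ∃ b ∈ S.C, g⁻¹ * S.z * g = S.φ a * b :=
  h.split_back h.comm.symm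

/-- an involution of the centralizer commuting with the conjugate is central -/
theorem Pair.invol {g x : G} (h : S.Pair g) (hx : x ∈ S.C) (xx : x * x = 1) (x1 : x ≠ 1)
    (hc : Commute x (g * S.z * g⁻¹)) : x = S.z := by
  by_contra hne
  obtain ⟨a, b, hb, ey⟩ := h.split_back hc
  obtain ⟨a0, b0, hb0, ew⟩ := h.split_z
  have yy : S.φ a * b * (S.φ a * b) = 1 := by
    rw [← ey, show g⁻¹ * x * g * (g⁻¹ * x * g) = g⁻¹ * (x * x) * g by group, xx]; group
  have ha : a ≠ 1 ∧ a ≠ tA := by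
    have hy := h.not_mem hx x1 ⟨1, by rw [pow_one, pow_two, xx]⟩
    rw [ey] at hy
    constructor <;> rintro rfl
    · exact hy (mul_mem (by rw [map_one]; exact one_mem _) hb)
    · exact hy (mul_mem S.z_mem hb)
  have hcent : ∀ l, Commute l a → Commute l a0 := by
    intro l hl
    refine S.commute_of hb0 ?_
    have h1 : Commute (g * S.φ l * g⁻¹) x := by
      rw [show x = g * (g⁻¹ * x * g) * g⁻¹ by group, ey]
      show _ * _ = _ * _
      rw [show g * S.φ l * g⁻¹ * (g * (S.φ a * b) * g⁻¹) = g * (S.φ l * (S.φ a * b)) * g⁻¹ by group,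
        (S.commute_split hb hl).eq]
      group
    have h2 : Commute (g * S.φ l * g⁻¹) S.z :=
      S.tight _ x hx x1 ⟨1, by rw [pow_one, pow_two, xx]⟩ (by rw [h1.eq, mul_inv_cancel_right]; exact hx)
    rw [← ew]
    show S.φ l * (g⁻¹ * S.z * g) = g⁻¹ * S.z * g * S.φ l
    calc S.φ l * (g⁻¹ * S.z * g) = g⁻¹ * (g * S.φ l * g⁻¹ * S.z) * g := by group
      _ = g⁻¹ * (S.z * (g * S.φ l * g⁻¹)) * g := by rw [h2.eq]
      _ = _ := by group
  have hsq : a * a = 1 ∨ a * a = tA := S.sq_center hb (by rw [yy]; exact one_mem _)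
  have hzC : g⁻¹ * S.z * g ∉ S.C := h.not_mem S.z_mem S.z_ne ⟨1, by rw [pow_one, pow_two, S.z_sq]⟩
  have hv : S.φ (a * a0) * (b * b0) ∉ S.C := by
    rw [← S.mul_split hb, ← ey, ← ew, show g⁻¹ * x * g * (g⁻¹ * S.z * g) = g⁻¹ * (x * S.z) * g by group]
    have xz : Commute x S.z := (S.comm hx tA).symm
    refine h.not_mem (mul_mem hx S.z_mem) (fun e => hne ?_) ⟨1, ?_⟩
    · exact (mul_eq_one_iff_eq_inv.1 e).trans (inv_eq_of_mul_eq_one_right S.z_sq)
    · rw [pow_one, pow_two, xz.symm.mul_mul_mul_comm, xx, S.z_sq, one_mul]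
  have phiC : ∀ q : MA, q = 1 ∨ q = tA → S.φ q ∈ S.C := by
    rintro q (rfl | rfl)
    · rw [map_one]; exact one_mem _
    · exact S.z_mem
  rcases centre_fact hsq ha hcent with e | e | e | e
  · exact hzC (by rw [ew]; exact mul_mem (phiC _ (Or.inl e)) hb0)
  · exact hzC (by rw [ew]; exact mul_mem (phiC _ (Or.inr e)) hb0)
  · exact hv (mul_mem (phiC _ (by rw [e]; exact hsq)) (mul_mem hb hb0))
  · refine hv (mul_mem (phiC _ ?_) (mul_mem hb hb0))
    rw [e, ← mul_assoc]
    rcases hsq with h' | h' <;> rw [h']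
    · exact Or.inr (one_mul _)
    · exact Or.inl tA_sq

theorem Pair.invol' {g x : G} (h : S.Pair g) (hx : x ∈ S.C) (xx : x * x = 1)
    (hc : Commute x (g * S.z * g⁻¹)) : x = 1 ∨ x = S.z :=
  or_iff_not_imp_left.2 fun x1 => h.invol hx xx x1 hc

/-- an element of order four of the centralizer commuting with the conjugate -/
theorem Pair.order_four [Finite G] {g x : G} (h : S.Pair g) (hx : x ∈ S.C) (xx : x * x = S.z)
    (hc : Commute x (g * S.z * g⁻¹)) :
    ∃ u a : MA, ∃ b ∈ S.C, IsConj uA u ∧ g⁻¹ * S.z * g = S.φ u ∧ g⁻¹ * x * g = S.φ a * b ∧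
      (a * a = u ∨ a * a = u * tA) := by
  obtain ⟨a, b, hb, ey⟩ := h.split_back hc
  obtain ⟨a0, b0, hb0, ew⟩ := h.split_z
  have hzC : g⁻¹ * S.z * g ∉ S.C := h.not_mem S.z_mem S.z_ne ⟨1, by rw [pow_one, pow_two, S.z_sq]⟩
  have yy : S.φ (a * a) * (b * b) = S.φ a0 * b0 := by
    rw [← S.mul_split hb, ← ey, ← ew, show g⁻¹ * x * g * (g⁻¹ * x * g) = g⁻¹ * (x * x) * g by group, xx]
  have ha2 : a * a = a0 ∨ a * a = a0 * tA := S.uniq hb0 (mul_mem hb hb) yy.symm
  have ha0 : a0 ≠ 1 ∧ a0 ≠ tA := by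
    rw [ew] at hzC
    constructor <;> rintro rfl
    · exact hzC (mul_mem (by rw [map_one]; exact one_mem _) hb0)
    · exact hzC (mul_mem S.z_mem hb0)
  have ww : S.φ a0 * b0 * (S.φ a0 * b0) = 1 := by
    rw [← ew, show g⁻¹ * S.z * g * (g⁻¹ * S.z * g) = g⁻¹ * (S.z * S.z) * g by group, S.z_sq]; group
  rcases S.sq_center hb0 (by rw [ww]; exact one_mem _) with h00 | h00
  swap
  · -- the square is a root of the central involution
    exfalso
    have h4 : a * a * (a * a) = tA := by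
      rcases ha2 with e | e <;> rw [e]
      · exact h00
      · rw [show a0 * tA * (a0 * tA) = a0 * (tA * a0) * tA by group, ← tA_comm a0, ← mul_assoc, h00, tA_sq, one_mul]
    obtain ⟨c, hca, hB2, hB1, hBt, hBa, hBat⟩ := eight_fact h4
    have hca0 : Commute c a0 := by
      rcases ha2 with e | e
      · exact e ▸ hca
      · have h' := hca.mul_right (show Commute c tA from tA_comm c)
        rwa [e, mul_assoc, tA_sq, mul_one] at h'
    set k := g * S.φ c * g⁻¹ with hk
    have kz : Commute k S.z := by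
      show _ * _ = _ * _
      rw [hk, show S.z = g * (g⁻¹ * S.z * g) * g⁻¹ by group, ew,
        show g * S.φ c * g⁻¹ * (g * (S.φ a0 * b0) * g⁻¹) = g * (S.φ c * (S.φ a0 * b0)) * g⁻¹ by group,
        (S.commute_split hb0 hca0).eq]
      group
    obtain ⟨l, d, hd, ekd⟩ := S.split k kz
    set x' := k * x * k⁻¹ with hx'
    have hx'C : x' ∈ S.C := by
      have e : x' = d * x * d⁻¹ := by
        rw [hx', ekd, show S.φ l * d * x * (S.φ l * d)⁻¹ = S.φ l * (d * x * d⁻¹) * (S.φ l)⁻¹ by group,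
          (S.comm (mul_mem (mul_mem hd hx) (inv_mem hd)) l).eq, mul_inv_cancel_right]
      rw [e]; exact mul_mem (mul_mem hd hx) (inv_mem hd)
    have kc : Commute k (g * S.z * g⁻¹) := by
      show g * S.φ c * g⁻¹ * (g * S.z * g⁻¹) = g * S.z * g⁻¹ * (g * S.φ c * g⁻¹)
      rw [show g * S.φ c * g⁻¹ * (g * S.z * g⁻¹) = g * (S.φ c * S.φ tA) * g⁻¹ by group, ← map_mul, tA_comm, map_mul]
      group
    set p := x * x' with hp
    have hpC : p ∈ S.C := mul_mem hx hx'C
    have hpz : Commute p (g * S.z * g⁻¹) := hc.mul_left ((kc.mul_left hc).mul_left kc.inv_left)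
    set B := a * (c * a * c⁻¹) with hB
    have egp : g⁻¹ * p * g = S.φ B * (b * b) := by
      rw [hp, show g⁻¹ * (x * x') * g = g⁻¹ * x * g * (S.φ c * (g⁻¹ * x * g) * (S.φ c)⁻¹) by rw [hx', hk]; group, ey,
        show S.φ c * (S.φ a * b) * (S.φ c)⁻¹ = S.φ c * S.φ a * (b * (S.φ c)⁻¹) by group,
        ← ((S.comm hb c).inv_left).eq, hB, ← mul_assoc (S.φ c * S.φ a), ← map_inv, ← map_mul, ← map_mul,
        S.mul_split hb]
    have hBC : S.φ (B * B) ∈ S.C := by
      rcases hB2 with e | e <;> rw [e]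
      · rw [map_one]; exact one_mem _
      · exact S.z_mem
    obtain ⟨k2, n, hn, hord⟩ := Nat.exists_eq_two_pow_mul_odd (orderOf_pos p).ne'
    set q := p ^ n with hq
    have hq2 : q ^ 2 ^ k2 = 1 := by rw [hq, ← pow_mul, mul_comm, ← hord, pow_orderOf_eq_one]
    obtain ⟨j, rfl⟩ := hn
    have powg : ∀ i : ℕ, g⁻¹ * p ^ i * g = S.φ (B ^ i) * (b * b) ^ i := by
      intro i
      induction i with
      | zero => simp
      | succ i ih =>
        rw [pow_succ, show g⁻¹ * (p ^ i * p) * g = g⁻¹ * p ^ i * g * (g⁻¹ * p * g) by group, ih, egp,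
          S.mul_split (pow_mem (mul_mem hb hb) i), ← pow_succ, ← pow_succ]
    have hqq : q * q = 1 := by
      by_contra hne
      refine h.not_mem (mul_mem (pow_mem hpC _) (pow_mem hpC _)) hne ⟨k2, ?_⟩ ?_
      · rw [(Commute.refl q).mul_pow, hq2, one_mul]
      · rw [← pow_add, powg, ← two_mul, pow_mul B, pow_two]
        exact mul_mem (by rw [map_pow]; exact pow_mem hBC _) (pow_mem (mul_mem hb hb) _)
    have hBn : B ^ (2 * j + 1) = B ∨ B ^ (2 * j + 1) = B * tA := by
      rw [pow_succ', pow_mul, pow_two]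
      rcases hB2 with e | e <;> rw [e]
      · exact Or.inl (by rw [one_pow, mul_one])
      · rcases Nat.even_or_odd' j with ⟨i, hi | hi⟩ <;> rw [hi]
        · exact Or.inl (by rw [pow_mul, pow_two, tA_sq, one_pow, mul_one])
        · exact Or.inr (by rw [pow_succ, pow_mul, pow_two, tA_sq, one_pow, one_mul])
    have hBtt : B * tA * tA = B := by rw [mul_assoc, tA_sq, mul_one]
    rcases h.invol' (pow_mem hpC _) hqq (hpz.pow_left _) with e | e
    · have e' := powg (2 * j + 1)
      rw [e, show g⁻¹ * 1 * g = 1 by group] at e'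
      have : S.φ (B ^ (2 * j + 1)) ∈ S.C := by
        rw [eq_inv_of_mul_eq_one_left e'.symm]; exact inv_mem (pow_mem (mul_mem hb hb) _)
      rcases hBn with eB | eB <;> rw [eB] at this <;> rcases S.phi_mem this with e1 | e1
      · exact hB1 e1
      · exact hBt e1
      · exact hBt (by rw [← hBtt, e1, one_mul])
      · exact hB1 (by rw [← hBtt, e1, tA_sq])
    · have e' := powg (2 * j + 1)
      rw [e, ew] at e'
      have hBa0 : B = a0 ∨ B = a0 * tA := by
        rcases S.uniq hb0 (pow_mem (mul_mem hb hb) _) e' with e1 | e1 <;> rcases hBn with eB | eB <;> rw [eB] at e1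
        · exact Or.inl e1
        · exact Or.inr (by rw [← hBtt, e1])
        · exact Or.inr e1
        · exact Or.inl (mul_right_cancel e1)
      have : B = a * a ∨ B = a * a * tA := by
        rcases ha2 with e1 | e1 <;> rcases hBa0 with e2 | e2 <;> rw [e1, e2]
        · exact Or.inl rfl
        · exact Or.inr rfl
        · exact Or.inr (by rw [mul_assoc, tA_sq, mul_one])
        · exact Or.inl rfl
      rcases this with e2 | e2
      · exact hBa e2
      · exact hBat e2
  · have b00 : b0 * b0 = 1 := by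
      rw [S.mul_split hb0, h00, map_one, one_mul] at ww
      exact ww
    have hb0c : Commute b0 (g⁻¹ * S.z * g⁻¹⁻¹) := by
      rw [inv_inv, ew]; exact (S.comm hb0 a0).symm.mul_right (Commute.refl b0)
    have hu : IsConj uA a0 := by
      rcases invol_cases h00 with e | e | e | e
      · exact absurd e ha0.1
      · exact absurd e ha0.2
      · exact e
      · rcases ha2 with e2 | e2
        · exact absurd e2 (not_square e)
        · exact absurd e2 (not_square (by rw [tA_comm]; exact v_mul_t e))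
    rcases h.inv.invol' hb0 b00 hb0c with e | e
    · exact ⟨a0, a, b, hb, hu, by rw [ew, e, mul_one], ey, ha2⟩
    · refine ⟨a0 * tA, a, b, hb, by rw [tA_comm]; exact u_mul_t hu, by rw [ew, e, map_mul], ey, ?_⟩
      rcases ha2 with e2 | e2
      · exact Or.inr (by rw [e2, mul_assoc, tA_sq, mul_one])
      · exact Or.inl e2

/-- all commuting conjugates lie in the component -/
theorem Pair.in_comp [Finite G] {g : G} (h : S.Pair g) : ∃ l, g * S.z * g⁻¹ = S.φ l := by
  obtain ⟨l, c, hc, e⟩ := S.split _ h.comm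
  have sq : S.φ l * c * (S.φ l * c) = 1 := by
    rw [← e, show g * S.z * g⁻¹ * (g * S.z * g⁻¹) = g * (S.z * S.z) * g⁻¹ by group, S.z_sq]; group
  have hl := S.sq_center hc (by rw [sq]; exact one_mem _)
  rw [S.mul_split hc] at sq
  have hcz : Commute c (g * S.z * g⁻¹) := by rw [e]; exact (S.comm hc l).symm.mul_right (Commute.refl c)
  rcases hl with h' | h' <;> rw [h'] at sq
  · rw [map_one, one_mul] at sq
    rcases h.invol' hc sq hcz with e1 | e1
    · exact ⟨l, by rw [e, e1, mul_one]⟩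
    · exact ⟨l * tA, by rw [e, e1, map_mul]⟩
  · exfalso
    have cc : c * c = S.z := by
      rw [eq_inv_of_mul_eq_one_right sq]
      exact inv_eq_of_mul_eq_one_right S.z_sq
    obtain ⟨u, a, b, -, -, eu, -, -⟩ := h.order_four hc cc hcz
    obtain ⟨u', a', b', -, -, eu', -, -⟩ := h.inv.order_four hc cc (by rw [inv_inv, eu]; exact (S.comm hc u).symm)
    rw [inv_inv, e] at eu'
    have hcm : c = S.φ (l⁻¹ * u') := by rw [map_mul, map_inv, ← eu', inv_mul_cancel_left]
    have c2 := hc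
    rw [hcm] at c2
    rcases S.phi_mem c2 with e1 | e1 <;> rw [hcm, e1] at cc
    · rw [map_one, mul_one] at cc; exact S.z_ne cc.symm
    · rw [← map_mul, tA_sq, map_one] at cc; exact S.z_ne cc.symm

/-- there is no element of order four over the central involution -/
theorem Pair.no_four [Finite G] {g : G} (h : S.Pair g) {x : G} (hx : x ∈ S.C) (xx : x * x = S.z) : False := by
  obtain ⟨l, e⟩ := h.in_comp
  obtain ⟨u, a, b, hb, hu, ew, ey, ha⟩ := h.order_four hx xx (by rw [e]; exact (S.comm hx l).symm)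
  have hu2 : IsConj uA (a * a) := by
    rcases ha with e1 | e1 <;> rw [e1]
    · exact hu
    · rw [tA_comm]; exact u_mul_t hu
  obtain ⟨u2, hu2', hc2, hnc⟩ := root_fact hu2
  have hcu : Commute u2 u := by
    rcases ha with e1 | e1
    · exact e1 ▸ hc2
    · have h' := hc2.mul_right (show Commute u2 tA from tA_comm u2)
      rwa [e1, mul_assoc, tA_sq, mul_one] at h'
  obtain ⟨d, hd⟩ := isConj_iff.1 (hu.symm.trans hu2')
  set v := g * S.φ u2 * g⁻¹ with hv
  have hconj : v = g * S.φ d * g⁻¹ * S.z * (g * S.φ d * g⁻¹)⁻¹ := by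
    rw [hv, show g * S.φ d * g⁻¹ * S.z * (g * S.φ d * g⁻¹)⁻¹ = g * (S.φ d * (g⁻¹ * S.z * g) * (S.φ d)⁻¹) * g⁻¹ by group,
      ew, ← map_inv, ← map_mul, ← map_mul, hd]
  have hvz : Commute v S.z := by
    show _ * _ = _ * _
    rw [hv, show S.z = g * (g⁻¹ * S.z * g) * g⁻¹ by group, ew,
      show g * S.φ u2 * g⁻¹ * (g * S.φ u * g⁻¹) = g * (S.φ u2 * S.φ u) * g⁻¹ by group, ← map_mul, hcu.eq, map_mul]
    group
  have hxv : Commute v x := by
    by_cases hm : Commute (g * S.φ d * g⁻¹) S.z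
    · have : v = S.z := by rw [hconj, hm.eq, mul_inv_cancel_right]
      rw [this]; exact S.comm hx tA
    · obtain ⟨l', e'⟩ := (⟨hconj ▸ hvz, hm⟩ : S.Pair (g * S.φ d * g⁻¹)).in_comp
      rw [← hconj] at e'
      rw [e']; exact S.comm hx l'
  refine hnc (S.commute_of hb ?_)
  rw [← ey]
  show S.φ u2 * (g⁻¹ * x * g) = g⁻¹ * x * g * S.φ u2
  calc S.φ u2 * (g⁻¹ * x * g) = g⁻¹ * (v * x) * g := by rw [hv]; group
    _ = g⁻¹ * (x * v) * g := by rw [hxv.eq]
    _ = _ := by rw [hv]; group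

/-- two-elements of the centralizer are central -/
theorem Pair.two_elem [Finite G] {g : G} (h : S.Pair g) : ∀ (k : ℕ) {x : G}, x ∈ S.C → x ^ 2 ^ k = 1 → x = 1 ∨ x = S.z := by
  intro k
  induction k with
  | zero => intro x _ e; rw [pow_zero, pow_one] at e; exact Or.inl e
  | succ k ih =>
    intro x hx e
    rw [pow_succ', pow_mul] at e
    obtain ⟨l, el⟩ := h.in_comp
    rcases ih (pow_mem hx 2) e with e2 | e2 <;> rw [pow_two] at e2
    · exact h.invol' hx e2 (by rw [el]; exact (S.comm hx l).symm)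
    · exact (h.no_four hx e2).elim

/-- without odd normal subgroups in the centralizer of the involution, the centralizer of the component is central -/
theorem Pair.cent_eq [Finite G] {g : G} (h : S.Pair g)
    (hO : Cfsg.pPrimeCore 2 ↥(Subgroup.centralizer ({S.z} : Set G)) = ⊥) : ∀ c ∈ S.C, c = 1 ∨ c = S.z := by
  haveI : Fact (Nat.Prime 2) := ⟨Nat.prime_two⟩
  let Z : Subgroup S.C := Subgroup.zpowers ⟨S.z, S.z_mem⟩
  have hzo : orderOf (⟨S.z, S.z_mem⟩ : S.C) = 2 :=
    orderOf_eq_prime (Subtype.ext (by show S.z ^ 2 = 1; rw [pow_two, S.z_sq])) fun e => S.z_ne (congrArg Subtype.val e)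
  have hZc : Nat.card Z = 2 := by rw [Nat.card_zpowers, hzo]
  have zc : ∀ y : S.C, y * ⟨S.z, S.z_mem⟩ = ⟨S.z, S.z_mem⟩ * y := fun y => Subtype.ext (S.comm y.2 tA).symm.eq
  haveI : Z.Normal := ⟨fun n hn y => by
    obtain ⟨i, rfl⟩ := hn
    rw [((show Commute y (⟨S.z, S.z_mem⟩ : S.C) from zc y).zpow_right i).eq, mul_inv_cancel_right]
    exact ⟨i, rfl⟩⟩
  have memZ : ∀ y : S.C, (y = 1 ∨ (y : G) = S.z) → y ∈ Z := by
    rintro y (rfl | hy)
    · exact one_mem _
    · rw [show y = ⟨S.z, S.z_mem⟩ from Subtype.ext hy]; exact Subgroup.mem_zpowers _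
  obtain ⟨P⟩ : Nonempty (Sylow 2 S.C) := inferInstance
  have hPZ : (P : Subgroup S.C) ≤ Z := fun y hy => by
    obtain ⟨k, hk⟩ := P.2 ⟨y, hy⟩
    refine memZ y ((h.two_elem k y.2 ?_).imp (fun e => Subtype.ext e) id)
    have := congrArg (fun t : ↥(P : Subgroup S.C) => ((t : S.C) : G)) hk
    simpa using this
  have hodd : Odd Z.index := by
    rw [Nat.odd_iff]
    by_contra hc
    have : 2 ∣ Z.index := by omega
    exact P.not_dvd_index (this.trans (Subgroup.index_dvd_of_le hPZ))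
  obtain ⟨K, hK⟩ := Subgroup.exists_right_complement'_of_coprime (N := Z) (by
    rw [hZc]; exact Nat.coprime_two_left.2 hodd)
  have hKi : K.index = 2 := by rw [hK.index_eq_card, hZc]
  haveI hKn : K.Normal := Subgroup.normal_of_index_eq_two hKi
  have hKodd : Odd (Nat.card K) := by
    have := hK.symm.card_mul
    have h2 := Z.index_mul_card
    rw [hZc] at this h2
    rwa [show Nat.card K = Z.index by omega]
  -- odd order elements
  have hmem : ∀ y : S.C, Odd (orderOf y) → y ∈ K := fun y hy => by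
    obtain ⟨j, hj⟩ := hy
    have h1 : (y ^ 2) ^ (j + 1) ∈ K := pow_mem (Subgroup.sq_mem_of_index_two hKi y) _
    rwa [← pow_mul, show 2 * (j + 1) = orderOf y + 1 by omega, pow_succ, pow_orderOf_eq_one, one_mul] at h1
  have hCle : S.C ≤ Subgroup.centralizer ({S.z} : Set G) := fun c hc =>
    Subgroup.mem_centralizer_singleton_iff.2 (S.comm hc tA).symm.eq
  let N : Subgroup ↥(Subgroup.centralizer ({S.z} : Set G)) := (K.map S.C.subtype).subgroupOf _
  haveI : N.Normal := ⟨by
    rintro n ⟨k, hk, e⟩ y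
    obtain ⟨l, d, hd, ey⟩ := S.split y (Subgroup.mem_centralizer_singleton_iff.1 y.2)
    have e' : ((y * n * y⁻¹ : ↥(Subgroup.centralizer ({S.z} : Set G))) : G) =
        (((⟨d, hd⟩ : S.C) * k * ⟨d, hd⟩⁻¹ : S.C) : G) := by
      show (y : G) * (n : G) * (y : G)⁻¹ = d * (k : G) * d⁻¹
      rw [show (n : G) = (k : G) from e.symm, ey,
        show S.φ l * d * (k : G) * (S.φ l * d)⁻¹ = S.φ l * (d * k * d⁻¹) * (S.φ l)⁻¹ by group,
        (S.comm (mul_mem (mul_mem hd k.2) (inv_mem hd)) l).eq, mul_inv_cancel_right]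
    exact Subgroup.mem_subgroupOf.2 ⟨_, hKn.conj_mem k hk _, e'.symm⟩⟩
  have hN : N = ⊥ := by
    refine eq_bot_iff.2 (hO ▸ Fusion.le_pPrimeCore ?_)
    rw [Nat.card_congr (Subgroup.subgroupOfEquivOfLe ((Subgroup.map_subtype_le K).trans hCle)).toEquiv,
      Subgroup.card_map_of_injective S.C.subtype_injective]
    exact Nat.coprime_two_right.2 hKodd
  intro c hc
  have h1 : ((⟨c, hc⟩ : S.C) ^ 2) ∈ K := Subgroup.sq_mem_of_index_two hKi _
  have h2 : (⟨c ^ 2, hCle (pow_mem hc 2)⟩ : ↥(Subgroup.centralizer ({S.z} : Set G))) ∈ N :=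
    Subgroup.mem_subgroupOf.2 ⟨_, h1, rfl⟩
  rw [hN, Subgroup.mem_bot] at h2
  exact h.two_elem 1 hc (congrArg Subtype.val h2)

end Std

end Cfsg.Agent.Spor.CoThreeStandard
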